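import Mathlib.RingTheory.AdjoinRoot
import Mathlib.RingTheory.Trace.Basic
import Mathlib.Algebra.CharP.Lemmas
import Mathlib.LinearAlgebra.Matrix.Charpoly.Coeff

/-!
# The trace of a Frobenius power in rank two
-/

set_option autoImplicit false

universe u v

namespace Groth.Agent.FrobTwoLib

open Matrix Polynomial

/-- The trace of a `p`-th power of a `2 × 2` matrix in characteristic `p`. -/
theorem matrix_trace_pow {R : Type u} [CommRing R] (p : ℕ) [Fact p.Prime] (hp : (p : R) = 0)
    (M : Matrix (Fin 2) (Fin 2) R) : (M ^ p).trace = M.trace ^ p := by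
  rcases subsingleton_or_nontrivial R with _ | _
  · exact Subsingleton.elim _ _
  let t := M.trace
  let d := M.det
  let q : R[X] := X ^ 2 - C t * X + C d
  have hq : q.Monic := by
    show (X ^ 2 - C t * X + C d).Monic
    monicity!
  have hdeg : q.natDegree = 2 := by
    show (X ^ 2 - C t * X + C d).natDegree = 2
    compute_degree!
  let φ := AdjoinRoot.of q
  have hinj : Function.Injective φ := (injective_iff_map_eq_zero φ).2 fun r hr => by
    have h1 : q ∣ C r := AdjoinRoot.mk_eq_zero.1 ((AdjoinRoot.mk_C r).trans hr)
    by_contra hne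
    refine hq.not_dvd_of_natDegree_lt (fun h => hne (C_eq_zero.1 h)) ?_ h1
    rw [natDegree_C, hdeg]
    exact two_pos
  let x := AdjoinRoot.root q
  have hx : x ^ 2 - φ t * x + φ d = 0 := by
    have := AdjoinRoot.eval₂_root q
    simpa [q, x, φ] using this
  let y := φ t - x
  have hy : y ^ 2 - φ t * y + φ d = 0 := by
    rw [show y = φ t - x from rfl]
    linear_combination hx
  have hCH : M ^ 2 = t • M - d • (1 : Matrix (Fin 2) (Fin 2) R) := by
    ext i j
    fin_cases i <;> fin_cases j <;>
      simp [t, d, pow_two, Matrix.mul_apply, Matrix.trace, Matrix.det_fin_two, Fin.sum_univ_two] <;> ring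
  have key : ∀ n, φ (M ^ n).trace = x ^ n + y ^ n := by
    intro n
    induction n using Nat.twoStepInduction with
    | zero =>
      rw [pow_zero, Matrix.trace_one, Fintype.card_fin, map_natCast, pow_zero, pow_zero]
      norm_num
    | one => simp [y, t]
    | more n h1 h2 =>
      have e : M ^ (n + 2) = t • M ^ (n + 1) - d • M ^ n := by
        rw [pow_add, hCH, mul_sub, Matrix.mul_smul, Matrix.mul_smul, mul_one, ← pow_succ]
      rw [e, Matrix.trace_sub, Matrix.trace_smul, Matrix.trace_smul, smul_eq_mul, smul_eq_mul, map_sub,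
        map_mul, map_mul, h1, h2]
      linear_combination -(x ^ n) * hx - (y ^ n) * hy
  apply hinj
  haveI : CharP R p := (CharP.charP_iff_prime_eq_zero Fact.out).2 hp
  haveI : CharP (AdjoinRoot q) p := charP_of_injective_ringHom hinj p
  rw [key p, map_pow, ← add_pow_char, show x + y = φ t from add_sub_cancel _ _]

/-- The trace of a `p`-th power in an algebra free of rank two in characteristic `p`. -/
theorem trace_pow {R : Type u} {S : Type v} [CommRing R] [CommRing S] [Algebra R S] (p : ℕ) [Fact p.Prime]
    (hp : (p : R) = 0) (b : Module.Basis (Fin 2) R S) (a : S) :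
    Algebra.trace R S (a ^ p) = Algebra.trace R S a ^ p := by
  rw [Algebra.trace_eq_matrix_trace b, Algebra.trace_eq_matrix_trace b, map_pow, matrix_trace_pow p hp]

end Groth.Agent.FrobTwoLib
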