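import Groth.Prelude.Def_Frob
import Groth.Prelude.Def_ClSub2
import Groth.Agent.FrobTwoLib.Trace
import Groth.Agent.FinCovLib.Trace
import Groth.Agent.CohBase.PushNat
import Groth.Agent.CohBase.Affine
import Groth.Agent.QCohLib.Exact

/-!
# Frobenius on the cohomology of a double cover in odd characteristic
-/

set_option autoImplicit false
set_option backward.isDefEq.respectTransparency false
set_option linter.style.haveILetI false

universe u

open CategoryTheory CategoryTheory.Limits AlgebraicGeometry Opposite TopologicalSpace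
open Groth.Agent.CohBase Groth.Agent.QCohLib

noncomputable section

namespace Groth.Agent.FrobTwoLib

variable (p : ℕ) [Fact p.Prime]

/-- The Frobenius endomorphism of the abelian sheaf of functions. -/
def phi (X : Scheme.{u}) [FrobSch.IsCharP X p] :
    Coh.toAb (Coh.structureModule X) ⟶ Coh.toAb (Coh.structureModule X) :=
  (toAbF X).map (X := Coh.structureModule X)
    (Y := (Scheme.Modules.pushforward (FrobSch.frob X p)).obj (Coh.structureModule X))
    (ClSub.unitToPush (FrobSch.frob X p))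

theorem phi_app (X : Scheme.{u}) [FrobSch.IsCharP X p] (U : X.Opens) (t : Γ(X, U)) :
    (phi p X).hom.app (op U) t = t ^ p := rfl

theorem mono_phi (X : Scheme.{u}) [IsReduced X] [FrobSch.IsCharP X p] : Mono (phi p X) := by
  haveI : ∀ U, Mono ((phi p X).hom.app U) := fun U => (AddCommGrpCat.mono_iff_injective _).2 fun a b h => by
    change Γ(X, U.unop) at a b
    change a ^ p = b ^ p at h
    rcases subsingleton_or_nontrivial Γ(X, U.unop) with hs | hs
    · exact hs.elim a b
    · haveI : CharP Γ(X, U.unop) p := (CharP.charP_iff_prime_eq_zero Fact.out).2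
        (FrobSch.natCast_eq_zero_app X p U.unop)
      exact frobenius_inj Γ(X, U.unop) p h
  haveI : Mono (phi p X).hom := NatTrans.mono_of_mono_app _
  exact (sheafToPresheaf _ _).mono_of_mono_map (show Mono (phi p X).hom from inferInstance)

theorem mono_unit (X : Scheme.{u}) [IsReduced X] [FrobSch.IsCharP X p] :
    Mono (ClSub.unitToPush (FrobSch.frob X p)) := by
  haveI : (toAbF X).Faithful := inferInstanceAs (SheafOfModules.toSheaf.{u} X.ringCatSheaf).Faithful
  exact (toAbF X).mono_of_mono_map (mono_phi p X)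

/-- The short exact sequence of the Frobenius unit. -/
def frobSeq (X : Scheme.{u}) [FrobSch.IsCharP X p] : ShortComplex (AbSh X) :=
  (ShortComplex.mk (ClSub.unitToPush (FrobSch.frob X p)) (cokernel.π _) (cokernel.condition _)).map (toAbF X)

theorem frobSeq_shortExact (X : Scheme.{u}) [IsReduced X] [FrobSch.IsCharP X p] : (frobSeq p X).ShortExact := by
  haveI := mono_unit p X
  exact toAb_shortExact { exact := ShortComplex.exact_cokernel _ }

/-- Vanishing of the cohomology of the cokernel makes Frobenius bijective on cohomology. -/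
theorem bijective_of_subsingleton (X : Scheme.{u}) [IsReduced X] [FrobSch.IsCharP X p]
    (hB : ∀ i : ℕ, Subsingleton (Coh.HH X (cokernel (ClSub.unitToPush (FrobSch.frob X p))) i)) (n : ℕ) :
    Function.Bijective (hmap (⊤ : X.Opens) (phi p X) n) := by
  have hS := frobSeq_shortExact p X
  have hB' : ∀ i, Subsingleton (HU (⊤ : X.Opens) (frobSeq p X).X₃ i) := fun i =>
    haveI := hB i
    (HHEquiv (cokernel (ClSub.unitToPush (FrobSch.frob X p))) i).symm.toEquiv.subsingleton
  constructor
  · refine (injective_iff_map_eq_zero _).2 fun x hx => ?_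
    cases n with
    | zero =>
      haveI := hS.mono_f
      exact Abelian.Ext.postcomp_mk₀_injective_of_mono _ (frobSeq p X).f (hx.trans (map_zero _).symm)
    | succ m =>
      obtain ⟨z, rfl⟩ := Abelian.Ext.covariant_sequence_exact₁ _ hS x hx rfl
      haveI := hB' m
      rw [Subsingleton.elim (α := HU (⊤ : X.Opens) (frobSeq p X).X₃ m) z 0]
      simp
  · intro y
    exact Abelian.Ext.covariant_sequence_exact₂ _ hS y
      ((hB' n).elim _ _)

/-- Bijectivity of Frobenius on cohomology kills the cohomology of the cokernel. -/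
theorem subsingleton_of_bijective (X : Scheme.{u}) [IsReduced X] [FrobSch.IsCharP X p]
    (hb : ∀ n, Function.Bijective (hmap (⊤ : X.Opens) (phi p X) n)) (i : ℕ) :
    Subsingleton (Coh.HH X (cokernel (ClSub.unitToPush (FrobSch.frob X p))) i) := by
  refine subsingleton_HH _ i ?_
  have hS := frobSeq_shortExact p X
  refine subsingleton_of_forall_eq (0 : HU (⊤ : X.Opens) (frobSeq p X).X₃ i) fun z => ?_
  obtain ⟨y, rfl⟩ : ∃ y, hmap ⊤ (frobSeq p X).g i y = z := by
    refine Abelian.Ext.covariant_sequence_exact₃ _ hS z rfl ?_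
    refine (hb (i + 1)).1 (Eq.trans ?_ (map_zero _).symm)
    show Abelian.Ext.comp (Abelian.Ext.comp z hS.extClass rfl) (Abelian.Ext.mk₀ (frobSeq p X).f) (add_zero _) = 0
    rw [Abelian.Ext.comp_assoc_of_third_deg_zero, hS.extClass_comp, Abelian.Ext.comp_zero]
  obtain ⟨x, rfl⟩ := (hb i).2 y
  show Abelian.Ext.comp (Abelian.Ext.comp x (Abelian.Ext.mk₀ (frobSeq p X).f) (add_zero i))
    (Abelian.Ext.mk₀ (frobSeq p X).g) (add_zero i) = 0
  rw [Abelian.Ext.comp_assoc_of_third_deg_zero, Abelian.Ext.mk₀_comp_mk₀, (frobSeq p X).zero,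
    Abelian.Ext.mk₀_zero, Abelian.Ext.comp_zero]

/-- A retract of a map bijective on cohomology is bijective on cohomology. -/
theorem bijective_of_retract {T : Type u} [TopologicalSpace T] {F G : AbSh T} (φ : F ⟶ F) (ψ : G ⟶ G)
    (s : F ⟶ G) (r : G ⟶ F) (hsr : s ≫ r = 𝟙 F) (hs : φ ≫ s = s ≫ ψ) (hr : ψ ≫ r = r ≫ φ) (n : ℕ)
    (hb : Function.Bijective (hmap (⊤ : Opens T) ψ n)) : Function.Bijective (hmap (⊤ : Opens T) φ n) := by
  have hc : ∀ {A B C : AbSh T} (f : A ⟶ B) (g : B ⟶ C) (x : HU (⊤ : Opens T) A n),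
      hmap ⊤ g n (hmap ⊤ f n x) = hmap ⊤ (f ≫ g) n x := fun f g x => by
    show Abelian.Ext.comp (Abelian.Ext.comp x (Abelian.Ext.mk₀ f) (add_zero n))
      (Abelian.Ext.mk₀ g) (add_zero n) = Abelian.Ext.comp x (Abelian.Ext.mk₀ (f ≫ g)) (add_zero n)
    rw [Abelian.Ext.comp_assoc_of_third_deg_zero, Abelian.Ext.mk₀_comp_mk₀]
  have hid : ∀ x, hmap ⊤ r n (hmap ⊤ s n x) = x := fun x => by
    rw [hc, hsr]
    exact Abelian.Ext.comp_mk₀_id x
  refine ⟨Function.Injective.of_comp (f := hmap ⊤ s n) fun a b h => ?_, fun y => ?_⟩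
  · simp only [Function.comp_apply, hc, hs] at h
    rw [← hc, ← hc] at h
    exact Function.LeftInverse.injective hid (hb.1 h)
  · obtain ⟨z, hz⟩ := hb.2 (hmap ⊤ s n y)
    refine ⟨hmap ⊤ r n z, ?_⟩
    rw [hc, ← hr, ← hc, hz, hid]

section Cover

open FinCovLib

attribute [local instance] secAlgebra

variable {X Y : Scheme.{u}} (f : Y ⟶ X) [IsAffineHom f]

/-- The direct image algebra as a module is the direct image of the structure module. -/
def toModuleIso : (RelSpec.QCAlg.directImage f).toModule ≅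
    (Scheme.Modules.pushforward f).obj (Coh.structureModule Y) where
  hom := ⟨PresheafOfModules.homMk
    { app := fun U => AddCommGrpCat.ofHom (AddMonoidHom.id Γ(Y, f ⁻¹ᵁ U.unop))
      naturality := fun U V i => by ext s; rfl }
    fun U r s => rfl⟩
  inv := ⟨PresheafOfModules.homMk
    { app := fun U => AddCommGrpCat.ofHom (AddMonoidHom.id Γ(Y, f ⁻¹ᵁ U.unop))
      naturality := fun U V i => by ext s; rfl }
    fun U r s => rfl⟩
  hom_inv_id := Scheme.Modules.hom_ext _ _ fun U => by ext s; rfl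
  inv_hom_id := Scheme.Modules.hom_ext _ _ fun U => by ext s; rfl

theorem rank_toModule (h2 : FlatMod.IsFinLocFreeOfRank 2 ((Scheme.Modules.pushforward f).obj (Coh.structureModule Y))) :
    FlatMod.IsFinLocFreeOfRank 2 (RelSpec.QCAlg.directImage f).toModule := fun x => by
  obtain ⟨U, hx, ⟨e⟩⟩ := h2 x
  exact ⟨U, hx, ⟨(Scheme.Modules.restrictFunctor U.ι).mapIso (toModuleIso f) ≪≫ e⟩⟩

variable [FrobSch.IsCharP X p]

/-- The trace commutes with Frobenius. -/
theorem app_pow {A : RelSpec.QCAlg X} (hA : FlatMod.IsFinLocFreeOfRank 2 A.toModule)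
    {τ : A.toModule ⟶ Coh.structureModule X} (hτ : FinCov.IsTrace A τ) (U : X.Opens) (a : Sec A U) :
    τ.app U (show Sec A U from a ^ p) = (show Γ(X, U) from τ.app U a) ^ p := by
  have hA' := isFinLocFree_of_rank hA
  choose W fr hWa hxW hWU hf using fun x : U => exists_isFr_rank hA x.2
  refine X.sheaf.eq_of_locally_eq' W U (fun x => homOfLE (hWU x))
    (fun x hx => Opens.mem_iSup.2 ⟨⟨x, hx⟩, hxW ⟨x, hx⟩⟩) _ _ fun x => ?_
  show resX (hWU x) _ = resX (hWU x) _
  refine Eq.trans ?_ (map_pow (resX (hWU x)) _ p).symm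
  refine (app_map (hWU x) (show Sec A U from a ^ p)).symm.trans ?_
  refine Eq.trans ?_ (congrArg (fun z : Γ(X, W x) => z ^ p)
    ((app_eq_tr hA' hτ ⟨2, _, hf x⟩ (res A (hWU x) a)).symm.trans (app_map (hWU x) a)))
  refine (app_eq_tr hA' hτ ⟨2, _, hf x⟩ _).trans ?_
  rw [map_pow (res A (hWU x))]
  exact trace_pow p (FrobSch.natCast_eq_zero_app X p (W x)) ((hf x).basis le_rfl) _

variable [FrobSch.IsCharP Y p]

/-- Frobenius is bijective on the cohomology of `X` when it is so on that of the double cover. -/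
theorem bijective_of_double (hp : p ≠ 2)
    (h2 : FlatMod.IsFinLocFreeOfRank 2 ((Scheme.Modules.pushforward f).obj (Coh.structureModule Y)))
    (n : ℕ) (hb : Function.Bijective (hmap (⊤ : Y.Opens) (phi p Y) n)) :
    Function.Bijective (hmap (⊤ : X.Opens) (phi p X) n) := by
  obtain ⟨e, he⟩ := hasPushNat f.base (B := fun V : X.Opens => IsAffineOpen V)
    (fun W y hy => by
      obtain ⟨_, ⟨V : X.Opens, hV, rfl⟩, hyV, hVW⟩ :=
        X.isBasis_affineOpens.exists_subset_of_mem_open (a := y) hy W.2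
      exact ⟨V, hV, hyV, hVW⟩)
    (F := Coh.toAb (Coh.structureModule Y))
    (fun V hV m => by
      haveI := CohBase.isQCoh_structureModule (X := Y)
      exact affine_vanishing (Coh.structureModule Y) (hV.preimage f) m) n
  let ψ := (pushS f.base).map (phi p Y)
  have hψ : Function.Bijective (hmap (⊤ : X.Opens) ψ n) := by
    have h : hmap (⊤ : X.Opens) ψ n = fun z => e (hmap ⊤ (phi p Y) n (e.symm z)) := funext fun z =>
      ((he (phi p Y) (e.symm z)).trans (congrArg (hmap ⊤ ψ n) (e.apply_symm_apply z))).symm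
    rw [h]
    exact e.bijective.comp (hb.comp e.symm.bijective)
  have hA := rank_toModule f h2
  obtain ⟨τ, hτ⟩ := exists_isTrace (isFinLocFree_of_rank hA)
  let s : Coh.toAb (Coh.structureModule X) ⟶ (pushS f.base).obj (Coh.toAb (Coh.structureModule Y)) :=
    (toAbF X).map (ClSub.unitToPush f)
  let t : (pushS f.base).obj (Coh.toAb (Coh.structureModule Y)) ⟶ Coh.toAb (Coh.structureModule X) :=
    (toAbF X).map ((toModuleIso f).inv ≫ τ)
  let c : ℕ := (p + 1) / 2
  let μ : Coh.toAb (Coh.structureModule X) ⟶ Coh.toAb (Coh.structureModule X) :=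
    Coh.smulAb (Coh.structureModule X) (c : Coh.Γtop X)
  have hμ : ∀ (U : X.Opens) (a : Γ(X, U)), μ.hom.app (op U) a = (c : Γ(X, U)) * a := fun U a => by
    refine (Coh.smulAb_app _ _ _ _).trans ?_
    exact congrArg (fun z : Γ(X, U) => z * a) (map_natCast (Coh.resTop X (op U)) c)
  have hsc : ∀ (U : X.Opens) (a : Γ(X, U)), s.hom.app (op U) a = f.app U a := fun U a => rfl
  have htc : ∀ (U : X.Opens) (a : Γ(Y, f ⁻¹ᵁ U)),
      t.hom.app (op U) a = τ.app U (show Sec (RelSpec.QCAlg.directImage f) U from a) := fun U a => rfl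
  have hψc : ∀ (U : X.Opens) (a : Γ(Y, f ⁻¹ᵁ U)), ψ.hom.app (op U) a = a ^ p := fun U a => rfl
  have hodd : c * 2 = p + 1 := by
    have := (Fact.out : p.Prime).eq_two_or_odd
    omega
  refine bijective_of_retract (phi p X) ψ s (t ≫ μ) ?_ ?_ ?_ n hψ
  · apply Sheaf.hom_ext
    refine NatTrans.ext (funext fun U => AddCommGrpCat.ext fun a => ?_)
    change Γ(X, U.unop) at a
    show μ.hom.app (op U.unop) (t.hom.app (op U.unop) (s.hom.app (op U.unop) a)) = a
    rw [hsc, htc, hμ]
    refine (congrArg (fun z : Γ(X, U.unop) => (c : Γ(X, U.unop)) * z) (app_algebraMap hA hτ a)).trans ?_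
    rw [← mul_assoc, ← Nat.cast_mul, hodd, Nat.cast_add, FrobSch.natCast_eq_zero_app X p U.unop, Nat.cast_one,
      zero_add, one_mul]
  · apply Sheaf.hom_ext
    refine NatTrans.ext (funext fun U => AddCommGrpCat.ext fun a => ?_)
    change Γ(X, U.unop) at a
    show s.hom.app (op U.unop) ((phi p X).hom.app (op U.unop) a) = ψ.hom.app (op U.unop) (s.hom.app (op U.unop) a)
    rw [phi_app, hsc, hsc, hψc]
    exact map_pow (f.app U.unop).hom a p
  · apply Sheaf.hom_ext
    refine NatTrans.ext (funext fun U => AddCommGrpCat.ext fun a => ?_)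
    change Γ(Y, f ⁻¹ᵁ U.unop) at a
    show μ.hom.app (op U.unop) (t.hom.app (op U.unop) (ψ.hom.app (op U.unop) a)) =
      (phi p X).hom.app (op U.unop) (μ.hom.app (op U.unop) (t.hom.app (op U.unop) a))
    rw [hψc, htc, htc, hμ, hμ, phi_app]
    refine (congrArg (fun z : Γ(X, U.unop) => (c : Γ(X, U.unop)) * z)
      (app_pow p hA hτ U.unop (show Sec (RelSpec.QCAlg.directImage f) U.unop from a))).trans ?_
    refine Eq.trans ?_ (mul_pow _ _ p).symm
    refine congrArg (fun z : Γ(X, U.unop) => z * _) ?_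
    rcases subsingleton_or_nontrivial Γ(X, U.unop) with _ | _
    · exact Subsingleton.elim _ _
    · haveI : CharP Γ(X, U.unop) p := (CharP.charP_iff_prime_eq_zero Fact.out).2
        (FrobSch.natCast_eq_zero_app X p U.unop)
      exact (map_natCast (frobenius Γ(X, U.unop) p) c).symm

end Cover

end Groth.Agent.FrobTwoLib
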